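import Cfsg.Agent.TwoF.DC.TE.Tw_m3
import Cfsg.Agent.S0270
import Cfsg.Agent.S0814
import Cfsg.Agent.S2092
import Cfsg.Agent.S2093
import Cfsg.Agent.H837.RC.KilledP2
import Cfsg.Agent.Prune
set_option linter.all false
prune_inst 0x7f00000000000000000000000000000000000000000000000000000000000000000000000000000000000000000000000000000000000000000000000000000000000000000000000000000000000000003fffffffffffffffffffffffffffbeffbdffffffff
open scoped Cfsg.Agent.FastGrp

/-!
# TwoF, defining characteristic, type C (8): the finite group, numerical data, odd characteristic (helper34)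
-/

set_option autoImplicit false
set_option linter.unusedSectionVars false

namespace Cfsg.Agent.TwoF.DC.TC

open Finset Cfsg.Agent.H45.UniS Cfsg.Agent.H421.UniS

variable {p : ℕ} [hp : Fact p.Prime] {m : ℕ} {k : Type} [Field k] [IsAlgClosed k] [CharP k p]
  {F : Type} [Field F] [Fintype F] {f : ℕ} (hf : 0 < f) (hF : Fintype.card F = p ^ f) (ω : F →+* k)

include hF in
theorem fix_iff (a : k) : a ^ p ^ f = a ↔ ∃ c, ω c = a := by
  classical
  have h0 : ∀ c : F, ω c ^ p ^ f = ω c := fun c => by rw [← map_pow, ← hF, FiniteField.pow_card]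
  refine ⟨fun h => ?_, by rintro ⟨c, rfl⟩; exact h0 c⟩
  have h1 : 1 < p ^ f := hF ▸ Fintype.one_lt_card
  have h2 := FiniteField.X_pow_card_sub_X_ne_zero k h1
  have h3 : ∀ x : k, x ^ p ^ f = x → x ∈ (Polynomial.X ^ p ^ f - Polynomial.X : Polynomial k).roots.toFinset :=
    fun x hx => by rw [Multiset.mem_toFinset, Polynomial.mem_roots h2]; simp [hx]
  have h4 : univ.image ω = (Polynomial.X ^ p ^ f - Polynomial.X : Polynomial k).roots.toFinset := by
    refine eq_of_subset_of_card_le (fun x hx => ?_) ?_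
    · obtain ⟨c, -, rfl⟩ := mem_image.1 hx
      exact h3 _ (h0 c)
    · rw [card_image_of_injective _ ω.injective, card_univ, hF]
      exact (Multiset.toFinset_card_le _).trans ((Polynomial.card_roots' _).trans
        (FiniteField.X_pow_card_sub_X_natDegree_eq k h1).le)
  obtain ⟨c, -, hc⟩ := mem_image.1 (h4 ▸ h3 a h)
  exact ⟨c, hc⟩

include hF in
theorem closure_eq : Subgroup.closure {g : SG m k | ∃ i a, a ^ p ^ f = a ∧ (g = xs i a ∨ g = ys i a)} =
    (mapS ω).range := by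
  refine le_antisymm ((Subgroup.closure_le _).2 ?_) ?_
  · rintro _ ⟨i, a, ha, rfl | rfl⟩ <;> obtain ⟨c, rfl⟩ := (fix_iff hF ω a).1 ha
    · exact ⟨_, mapS_xs ω i c⟩
    · exact ⟨_, mapS_ys ω i c⟩
  · rintro _ ⟨g, rfl⟩
    refine Subgroup.mem_comap.1 ((Subgroup.closure_le _).2 ?_ (sGen g))
    rintro _ ⟨i, c, rfl | rfl⟩
    · exact Subgroup.subset_closure ⟨i, ω c, (fix_iff hF ω _).2 ⟨c, rfl⟩, Or.inl (mapS_xs ω i c)⟩
    · exact Subgroup.subset_closure ⟨i, ω c, (fix_iff hF ω _).2 ⟨c, rfl⟩, Or.inr (mapS_ys ω i c)⟩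

include hF in
theorem TT_eq (hFa : (DC p m k).Fa) : (PC p m k f hf).TT = (mapS ω).range :=
  ((PC p m k f hf).TT_eq_one hFa fun _ => rfl).trans (closure_eq hF ω)

omit hp in
theorem exists_π {K : Subgroup (SG m k)} (hK : K = (mapS ω).range) :
    ∃ π : K →* PSp m F, Function.Surjective π ∧ π.ker ≤ Subgroup.center K := by
  subst hK
  let e := (MonoidHom.ofInjective (mapS_inj (m := m) ω)).symm
  refine ⟨(QuotientGroup.mk' _).comp e.toMonoidHom, (QuotientGroup.mk'_surjective _).comp e.surjective, fun x hx => ?_⟩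
  have h1 : e x ∈ Subgroup.center _ := (QuotientGroup.eq_one_iff _).1 hx
  exact Subgroup.mem_center_iff.2 fun g => e.injective (by rw [map_mul, map_mul, Subgroup.mem_center_iff.1 h1])

theorem le_card_Zc (hm : 0 < m) : Nat.gcd 2 (p ^ f - 1) ≤ Nat.card (PC p m k f hf).Zc := by
  have hfin : Finite (PC p m k f hf).Zc := by
    have := (PC p m k f hf).finite_QQ
    exact Finite.of_injective (fun c : (PC p m k f hf).Zc => (⟨c.1, (PC p m k f hf).mem_QQ.2 c.2.1⟩ : (PC p m k f hf).QQ))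
      fun a b h => Subtype.ext (congrArg (fun x : (PC p m k f hf).QQ => x.1) h)
  by_cases h2 : p = 2
  · have h3 : Nat.Coprime 2 (p ^ f - 1) := by
      rw [Nat.coprime_two_left, h2]
      exact Nat.Even.sub_odd Nat.one_le_two_pow (Nat.even_pow.2 ⟨even_two, hf.ne'⟩) odd_one
    rw [h3]
    exact Nat.card_pos
  refine (Nat.gcd_le_left _ two_pos).trans (Finite.one_lt_card_iff_nontrivial.2 ?_)
  have h3 : Odd (p ^ f) := (hp.out.odd_of_ne_two h2).pow
  refine ⟨⟨cch (fun j => j.1 + 1) (-1), fun i => ?_, fun i => ?_⟩, 1, fun h => ?_⟩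
  · show (-1 : kˣ) ^ ((i.1 : ℤ) + 1) = ((-1) ^ ((i.1 : ℤ) + 1)) ^ p ^ f
    rw [← zpow_natCast, ← zpow_mul, mul_comm, zpow_mul, zpow_natCast, h3.neg_one_pow]
  · show ch (fun j => cv (zc j) ⬝ᵥ rv (zc i)) _ = 1
    have h4 : ∑ j : Fin m, ((j.1 : ℤ) + 1) • cv (zc j) = 1 := PS_inj fun l => by rw [PS_Ec]; simp [PS]
    have h5 : (fun j : Fin m => (j.1 : ℤ) + 1) ⬝ᵥ (fun j => cv (zc j) ⬝ᵥ rv (zc i)) = rv (zc i) ⬝ᵥ 1 := by
      rw [← h4, dotProduct_sum]
      exact sum_congr rfl fun j _ => by rw [dotProduct_smul, dotProduct_comm (rv _)]; rfl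
    rw [ch_cch, h5, rv_zc_dot]
    split_ifs <;> simp
  · have h4 := congrFun (congrArg Subtype.val h) ⟨0, hm⟩
    have h5 : (-1 : kˣ) = 1 := by simpa [cch] using h4
    have h6 : ((2 : ℕ) : k) = 0 := by
      have := congrArg Units.val h5
      simp only [Units.val_neg, Units.val_one] at this
      push_cast
      linear_combination -this
    exact h2 ((Nat.prime_dvd_prime_iff_eq hp.out Nat.prime_two).1 ((CharP.cast_eq_zero_iff k p 2).1 h6))

include hF ω in
/-- the numerical data, for a subgroup of `Sp_(2m)(k)` -/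
theorem num_aux (hm : 2 ≤ m) (h2 : m = 2 → 3 ≤ Fintype.card F) (h3 : ¬ (m = 2 ∧ p = 2)) :
    IsSimpleGroup (PSp m F) ∧ ¬ IsMulCommutative (PSp m F) ∧
      (∃ (A : Type) (_ : CommGroup A) (a : ℕ), HasSchurMultiplier (PSp m F) A ∧
        Nat.card A ∣ Nat.gcd 2 (p ^ f - 1) * p ^ a) ∧
      Nat.card (MulAut (PSp m F)) = Nat.gcd 2 (p ^ f - 1) * f * Nat.card (PSp m F) := by
  have h0 : 1 ≤ f := Nat.pos_of_ne_zero fun e => by
    rw [e, pow_zero] at hF
    exact (Fintype.one_lt_card.trans_eq hF).false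
  refine ⟨S0270.result m hm h2, H837.RC.KilledP2.psp_nonab hm h2, ?_, ?_⟩
  · by_cases h4 : m = 3 ∧ p ^ f = 2
    · obtain ⟨rfl, h4⟩ := h4
      refine ⟨_, _, 1, S2093.result (hF.trans h4), ?_⟩
      have h5 : p = 2 := (Nat.prime_dvd_prime_iff_eq hp.out Nat.prime_two).1 (h4 ▸ dvd_pow_self p (by omega))
      simp [h5]
    · exact ⟨_, _, 0, S2092.result hF m hm (hF ▸ h2) h4, by rw [Nat.card_congr Multiplicative.toAdd, Nat.card_zmod, pow_zero, mul_one]⟩
  · rw [S0814.result p f h0 hF m hm (hF ▸ h2), if_neg h3, one_mul]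

include hF ω in
theorem num (hFa : (DC p m k).Fa) (hm : 2 ≤ m) (h2 : m = 2 → 3 ≤ Fintype.card F) (h3 : ¬ (m = 2 ∧ p = 2)) :
    (PC p m k f hf).Num (PSp m F) := by
  obtain ⟨h4, h5, h6, h7⟩ := num_aux hF ω hm h2 h3
  refine ⟨h4, h5, exists_π ω (TT_eq hf hF ω hFa), _, le_card_Zc hf (by omega), h6, h7.le.trans ?_⟩
  exact Nat.mul_le_mul_right _ (Nat.mul_le_mul_right f (Nat.le_mul_of_pos_right _ Nat.card_pos))

theorem comb_C {ok : (Fin m → ℕ) → Prop} (h : Cmb (DC p m k) ok) (hex : ∃ l : Fin m → ℕ, (∀ i, l i < p) ∧ l ≠ 0 ∧ ok l) :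
    (PC p m k f hf).Comb ok := h.comb hex

/-- **odd characteristic** -/
theorem row_odd (hS : BoxStd) (hO : BoxOdd) (p : ℕ) [hp : Fact p.Prime] (h : p ≠ 2) (F : Type) [Field F] [Fintype F]
    [CharP F p] {m : ℕ} (hm : 2 ≤ m) (h2 : m = 2 → 3 ≤ Fintype.card F) : Row p (PSp m F) := by
  obtain ⟨f, -, hF⟩ := FiniteField.card F p
  have hC := comb_C f.2 (hO p h m hm (AlgebraicClosure F) _ (DC p m _) rfl)
    ⟨1, fun _ => hp.out.one_lt, fun e => one_ne_zero (congrFun e ⟨0, by omega⟩), trivial⟩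
  have hN := num f.2 hF (algebraMap F (AlgebraicClosure F)) hC.fa hm h2 fun e => h e.2
  exact boxFin hS p _ _ _ _ _ _ _ hN hC

end Cfsg.Agent.TwoF.DC.TC
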